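import Mathlib.Topology.Separation.Hausdorff
import Mathlib.Topology.Separation.SeparatedNhds
import Mathlib.Topology.Compactness.Compact

/-! Shrinking coverings of a quasi-compact relatively Hausdorff subset. -/

namespace Groth.Agent.Helper7.Cech

open Set Filter Topology

variable {X : Type*} [TopologicalSpace X] {Z : Set X}

/-- Disjoint compact subsets of a relatively Hausdorff set have disjoint open neighbourhoods. -/
lemma separated
    (hZsep : ∀ z ∈ Z, ∀ z' ∈ Z, z ≠ z' →
      ∃ A B : Set X, IsOpen A ∧ IsOpen B ∧ z ∈ A ∧ z' ∈ B ∧ Disjoint A B)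
    {K L : Set X} (hK : IsCompact K) (hL : IsCompact L) (hKZ : K ⊆ Z) (hLZ : L ⊆ Z)
    (hd : Disjoint K L) :
    ∃ A B : Set X, IsOpen A ∧ IsOpen B ∧ K ⊆ A ∧ L ⊆ B ∧ Disjoint A B := by
  have h : SeparatedNhds K L := by
    rw [separatedNhds_iff_disjoint, hK.disjoint_nhdsSet_left]
    intro x hx
    rw [hL.disjoint_nhdsSet_right]
    intro y hy
    have hxy : x ≠ y := fun e => Set.disjoint_left.mp hd hx (e ▸ hy)
    obtain ⟨A, B, hA, hB, hxA, hyB, hAB⟩ := hZsep x (hKZ hx) y (hLZ hy) hxy
    exact Filter.disjoint_iff.mpr ⟨A, hA.mem_nhds hxA, B, hB.mem_nhds hyB, hAB⟩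
  obtain ⟨A, B, hA, hB, hKA, hLB, hAB⟩ := h
  exact ⟨A, B, hA, hB, hKA, hLB, hAB⟩

/-- Neighbourhoods of finitely many relatively closed subsets of `Z` whose intersection is inside an
open set. -/
lemma exists_opens_inter_subset (hZ : IsCompact Z)
    (hZsep : ∀ z ∈ Z, ∀ z' ∈ Z, z ≠ z' →
      ∃ A B : Set X, IsOpen A ∧ IsOpen B ∧ z ∈ A ∧ z' ∈ B ∧ Disjoint A B)
    {κ : Type*} [DecidableEq κ] (s : Finset κ) (F : κ → Set X) (hF : ∀ a, IsClosed (F a)) :
    ∀ (L : Set X), IsCompact L → L ⊆ Z → ∀ (W : Set X), IsOpen W →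
      (L ∩ ⋂ a ∈ s, (Z ∩ F a) ⊆ W) →
      ∃ (A : κ → Set X) (B : Set X), (∀ a, IsOpen (A a)) ∧ IsOpen B ∧
        (∀ a ∈ s, Z ∩ F a ⊆ A a) ∧ L ⊆ B ∧ (B ∩ ⋂ a ∈ s, A a ⊆ W) := by
  induction s using Finset.induction_on with
  | empty =>
    intro L _ _ W hW h
    refine ⟨fun _ => univ, W, fun _ => isOpen_univ, hW, by simp, ?_, by simp⟩
    simpa using h
  | insert b s hb ih =>
    intro L hL hLZ W hW h
    have hL' : IsCompact (L ∩ F b) := hL.inter_right (hF b)
    obtain ⟨A, B', hA, hB', hAs, hLB', hBA⟩ := ih (L ∩ F b) hL'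
      (inter_subset_left.trans hLZ) W hW (by
        intro x hx
        apply h
        refine ⟨hx.1.1, ?_⟩
        simp only [Finset.mem_insert, iInter_iInter_eq_or_left, mem_inter_iff]
        exact ⟨⟨hLZ hx.1.1, hx.1.2⟩, hx.2⟩)
    -- separate `L \ B'` and `(Z ∩ F b) \ B'`
    have hK1 : IsCompact (L ∩ B'ᶜ) := hL.inter_right hB'.isClosed_compl
    have hK2 : IsCompact (Z ∩ (F b ∩ B'ᶜ)) := hZ.inter_right ((hF b).inter hB'.isClosed_compl)
    have hdisj : Disjoint (L ∩ B'ᶜ) (Z ∩ (F b ∩ B'ᶜ)) := by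
      rw [Set.disjoint_left]
      rintro x ⟨hxL, hxB⟩ ⟨_, hxF, _⟩
      exact hxB (hLB' ⟨hxL, hxF⟩)
    obtain ⟨P, Q, hP, hQ, hKP, hKQ, hPQ⟩ := separated hZsep hK1 hK2
      (inter_subset_left.trans hLZ) inter_subset_left hdisj
    refine ⟨Function.update A b (Q ∪ B'), P ∪ B', ?_, hP.union hB', ?_, ?_, ?_⟩
    · intro a
      by_cases hab : a = b
      · subst hab; simpa using hQ.union hB'
      · simpa [Function.update_of_ne hab] using hA a
    · intro a ha
      rcases Finset.mem_insert.mp ha with rfl | ha'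
      · rw [Function.update_self]
        intro x hx
        by_cases hxB : x ∈ B'
        · exact Or.inr hxB
        · exact Or.inl (hKQ ⟨hx.1, hx.2, hxB⟩)
      · have hab : a ≠ b := fun e => hb (e ▸ ha')
        rw [Function.update_of_ne hab]
        exact hAs a ha'
    · intro x hx
      by_cases hxB : x ∈ B'
      · exact Or.inr hxB
      · exact Or.inl (hKP ⟨hx, hxB⟩)
    · intro x hx
      apply hBA
      have hxb : x ∈ Function.update A b (Q ∪ B') b := by
        have := hx.2
        simp only [mem_iInter] at this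
        exact this b (Finset.mem_insert_self b s)
      rw [Function.update_self] at hxb
      have hxB' : x ∈ B' := by
        rcases hx.1 with hxP | hxB
        · rcases hxb with hxQ | hxB
          · exact absurd hxQ (Set.disjoint_left.mp hPQ hxP)
          · exact hxB
        · exact hxB
      refine ⟨hxB', ?_⟩
      simp only [mem_iInter]
      intro a ha
      have hab : a ≠ b := fun e => hb (e ▸ ha)
      have := hx.2
      simp only [mem_iInter] at this
      have h2 := this a (Finset.mem_insert_of_mem ha)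
      rwa [Function.update_of_ne hab] at h2

end Groth.Agent.Helper7.Cech
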