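import Groth.Agent.Lib.Helper7.Top.CechRefine
import Mathlib.Topology.Separation.Regular

/-! Shrinking coverings of a quasi-compact relatively Hausdorff subset, compatibly with prescribed
opens on multiple intersections. -/

namespace Groth.Agent.Helper7.Cech

open Set Filter Topology

variable {X : Type*} [TopologicalSpace X] {Z : Set X}

/-- finite index type -/
lemma core_finite (hZ : IsCompact Z)
    (hZsep : ∀ z ∈ Z, ∀ z' ∈ Z, z ≠ z' →
      ∃ A B : Set X, IsOpen A ∧ IsOpen B ∧ z ∈ A ∧ z' ∈ B ∧ Disjoint A B)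
    {ι : Type*} [Finite ι] (U : ι → Set X) (p : ℕ)
    (W : (Fin (p + 1) → ι) → Set X) (hWo : ∀ t, IsOpen (W t))
    (hWZ : ∀ t, (⋂ l, U (t l)) ∩ Z ⊆ W t)
    (F : ι → Set X) (hF : ∀ i, IsClosed (F i)) (hFU : ∀ i, Z ∩ F i ⊆ U i)
    (O : ι → Set X) (hO : ∀ i, IsOpen (O i)) (hFO : ∀ i, Z ∩ F i ⊆ O i) :
    ∃ V : ι → Set X, (∀ i, IsOpen (V i)) ∧ (∀ i, Z ∩ F i ⊆ V i) ∧ (∀ i, V i ⊆ O i) ∧
      ∀ t : Fin (p + 1) → ι, (⋂ l, V (t l)) ⊆ W t := by
  classical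
  have key : ∀ t : Fin (p + 1) → ι, ∃ (A : Fin (p + 1) → Set X) (B : Set X),
      (∀ a, IsOpen (A a)) ∧ IsOpen B ∧
      (∀ a ∈ (Finset.univ : Finset (Fin (p + 1))), Z ∩ F (t a) ⊆ A a) ∧ Z ⊆ B ∧
      (B ∩ ⋂ a ∈ (Finset.univ : Finset (Fin (p + 1))), A a ⊆ W t) := by
    intro t
    apply exists_opens_inter_subset hZ hZsep Finset.univ (fun l => F (t l)) (fun l => hF (t l)) Z hZ
      subset_rfl (W t) (hWo t)
    intro x hx
    apply hWZ t
    refine ⟨?_, hx.1⟩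
    simp only [mem_iInter]
    intro l
    have := hx.2
    simp only [Finset.mem_univ, iInter_true, mem_iInter] at this
    exact hFU (t l) (this l)
  choose A B hA hB hAF hZB hAW using key
  refine ⟨fun i => O i ∩ ⋂ (t : Fin (p + 1) → ι), ⋂ (l : Fin (p + 1)), ⋂ (_ : t l = i),
    (A t l ∩ B t), ?_, ?_, ?_, ?_⟩
  · intro i
    refine (hO i).inter ?_
    refine isOpen_iInter_of_finite fun t => isOpen_iInter_of_finite fun l =>
      isOpen_iInter_of_finite fun _ => (hA t l).inter (hB t)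
  · intro i x hx
    refine ⟨hFO i hx, ?_⟩
    simp only [mem_iInter]
    intro t l htl
    subst htl
    exact ⟨hAF t l (Finset.mem_univ l) hx, hZB t hx.1⟩
  · intro i x hx
    exact hx.1
  · intro t x hx
    apply hAW t
    simp only [mem_iInter] at hx
    have hx' : ∀ l, x ∈ A t l ∩ B t := by
      intro l
      have h := (hx l).2
      simp only [mem_iInter] at h
      exact h t l rfl
    refine ⟨(hx' 0).2, ?_⟩
    simp only [Finset.mem_univ, iInter_true, mem_iInter]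
    intro l
    exact (hx' l).1

/-- A finite family of closed sets shrinking a covering of `Z`. -/
lemma exists_closed_shrinking (hZ : IsCompact Z)
    (hZsep : ∀ z ∈ Z, ∀ z' ∈ Z, z ≠ z' →
      ∃ A B : Set X, IsOpen A ∧ IsOpen B ∧ z ∈ A ∧ z' ∈ B ∧ Disjoint A B)
    {ι : Type*} (U : ι → Set X) (hU : ∀ i, IsOpen (U i)) (hcov : Z ⊆ ⋃ i, U i) :
    ∃ (I₀ : Finset ι) (F : ι → Set X), (∀ i, IsClosed (F i)) ∧ (∀ i, Z ∩ F i ⊆ U i) ∧
      Z ⊆ ⋃ i ∈ I₀, F i := by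
  classical
  have h1 : ∀ z ∈ Z, ∃ (i : ι) (O O' : Set X), IsOpen O ∧ IsOpen O' ∧ z ∈ O ∧
      Z ∩ (U i)ᶜ ⊆ O' ∧ Disjoint O O' := by
    intro z hz
    obtain ⟨i, hi⟩ := mem_iUnion.mp (hcov hz)
    have hK : IsCompact ({z} : Set X) := isCompact_singleton
    have hL : IsCompact (Z ∩ (U i)ᶜ) := hZ.inter_right (hU i).isClosed_compl
    have hd : Disjoint ({z} : Set X) (Z ∩ (U i)ᶜ) := by
      rw [Set.disjoint_left]
      rintro x hx ⟨_, hx2⟩
      rw [mem_singleton_iff] at hx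
      subst hx
      exact hx2 hi
    obtain ⟨O, O', hO, hO', hzO, hLO', hOO'⟩ := separated hZsep hK hL
      (singleton_subset_iff.mpr hz) inter_subset_left hd
    exact ⟨i, O, O', hO, hO', hzO rfl, hLO', hOO'⟩
  have h2 : ∀ z : ↥Z, ∃ (i : ι) (O O' : Set X), IsOpen O ∧ IsOpen O' ∧ (z : X) ∈ O ∧
      Z ∩ (U i)ᶜ ⊆ O' ∧ Disjoint O O' := fun z => h1 z z.2
  choose idx O O' hO hO' hzO hLO' hOO' using h2
  obtain ⟨T, hT⟩ := hZ.elim_nhds_subcover' (fun z hz => O ⟨z, hz⟩)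
    (fun z hz => (hO ⟨z, hz⟩).mem_nhds (hzO ⟨z, hz⟩))
  refine ⟨T.image idx, fun i => ⋃ z ∈ T.filter (fun z => idx z = i), closure (O z), ?_, ?_, ?_⟩
  · intro i
    exact isClosed_biUnion_finset fun z _ => isClosed_closure
  · rintro i x ⟨hxZ, hxF⟩
    simp only [Finset.mem_filter, mem_iUnion, exists_prop] at hxF
    obtain ⟨z, ⟨hzT, hzi⟩, hxz⟩ := hxF
    by_contra hxU
    have hxO' : x ∈ O' z := hLO' z ⟨hxZ, by rw [hzi]; exact hxU⟩
    have hcl : closure (O z) ⊆ (O' z)ᶜ :=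
      closure_minimal (fun y hy hy' => Set.disjoint_left.mp (hOO' z) hy hy')
        (hO' z).isClosed_compl
    exact hcl hxz hxO'
  · intro x hx
    obtain ⟨z, hzT, hxz⟩ := mem_iUnion₂.mp (hT hx)
    simp only [Finset.mem_image, mem_iUnion, exists_prop, Finset.mem_filter]
    exact ⟨idx z, ⟨z, hzT, rfl⟩, z, ⟨hzT, rfl⟩, subset_closure hxz⟩

/-- The general shrinking statement, with auxiliary opens `O i`. -/
lemma core (hZ : IsCompact Z)
    (hZsep : ∀ z ∈ Z, ∀ z' ∈ Z, z ≠ z' →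
      ∃ A B : Set X, IsOpen A ∧ IsOpen B ∧ z ∈ A ∧ z' ∈ B ∧ Disjoint A B)
    {ι : Type*} (U : ι → Set X) (hU : ∀ i, IsOpen (U i)) (hcov : Z ⊆ ⋃ i, U i) (p : ℕ)
    (W : (Fin (p + 1) → ι) → Set X) (hWo : ∀ t, IsOpen (W t))
    (hWZ : ∀ t, (⋂ l, U (t l)) ∩ Z ⊆ W t)
    (Q : ι → Set X → Prop)
    (hQ : ∀ i (K : Set X), IsCompact K → K ⊆ Z → K ⊆ U i →
      ∃ O : Set X, IsOpen O ∧ K ⊆ O ∧ O ⊆ U i ∧ Q i O)
    (hQmono : ∀ i (O O' : Set X), O' ⊆ O → Q i O → Q i O') :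
    ∃ V : ι → Set X, (∀ i, IsOpen (V i)) ∧ (Z ⊆ ⋃ i, V i) ∧ (∀ i, V i ⊆ U i) ∧ (∀ i, Q i (V i)) ∧
      ∀ t : Fin (p + 1) → ι, (⋂ l, V (t l)) ⊆ W t := by
  classical
  obtain ⟨I₀, F, hF, hFU, hFcov⟩ := exists_closed_shrinking hZ hZsep U hU hcov
  have hO : ∀ i, ∃ O : Set X, IsOpen O ∧ Z ∩ F i ⊆ O ∧ O ⊆ U i ∧ Q i O := fun i =>
    hQ i (Z ∩ F i) (hZ.inter_right (hF i)) inter_subset_left (hFU i)
  choose O hOo hFO hOU hQO using hO
  obtain ⟨V', hV'o, hFV', hV'O, hV'W⟩ := core_finite hZ hZsep (ι := ↥I₀) (fun i => U i) p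
    (fun t => W (fun l => (t l : ι))) (fun t => hWo _) (fun t => hWZ _)
    (fun i => F i) (fun i => hF i) (fun i => hFU i) (fun i => O i) (fun i => hOo i)
    (fun i => hFO i)
  refine ⟨fun i => if h : i ∈ I₀ then V' ⟨i, h⟩ else ∅, ?_, ?_, ?_, ?_, ?_⟩
  · intro i
    by_cases h : i ∈ I₀
    · simp only [h, dite_true]; exact hV'o ⟨i, h⟩
    · simp only [h, dite_false]; exact isOpen_empty
  · intro x hx
    obtain ⟨i, hi, hxF⟩ := mem_iUnion₂.mp (hFcov hx)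
    refine mem_iUnion.mpr ⟨i, ?_⟩
    simp only [hi, dite_true]
    exact hFV' ⟨i, hi⟩ ⟨hx, hxF⟩
  · intro i
    by_cases h : i ∈ I₀
    · simp only [h, dite_true]
      exact (hV'O ⟨i, h⟩).trans (hOU i)
    · simp only [h, dite_false]; exact empty_subset _
  · intro i
    by_cases h : i ∈ I₀
    · simp only [h, dite_true]
      exact hQmono i (O i) _ (hV'O ⟨i, h⟩) (hQO i)
    · simp only [h, dite_false]
      exact hQmono i (O i) _ (empty_subset _) (hQO i)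
  · intro t x hx
    simp only [mem_iInter] at hx
    by_cases hall : ∀ l, t l ∈ I₀
    · have := hV'W (fun l => ⟨t l, hall l⟩)
      apply this
      simp only [mem_iInter]
      intro l
      have h2 := hx l
      simp only [hall l, dite_true] at h2
      exact h2
    · push Not at hall
      obtain ⟨l, hl⟩ := hall
      have h2 := hx l
      simp only [hl, dite_false] at h2
      exact absurd h2 (notMem_empty x)

end Groth.Agent.Helper7.Cech
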