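import Mathlib.Topology.ShrinkingLemma
import Mathlib.Topology.Separation.Regular
import Mathlib.Topology.Compactness.Compact

/-! Refinements of coverings of a compact Hausdorff space adapted to coverings of the multiple
intersections. -/

namespace Groth.Agent.Helper7.Cech

open Set Filter Topology

universe u

theorem exists_cech_refinement_of_compact_t2 {X : Type u} [TopologicalSpace X] [CompactSpace X]
    [T2Space X]
    {ι : Type u} (U : ι → Set X) (hU : ∀ i, IsOpen (U i)) (hcov : ⋃ i, U i = Set.univ) (p : ℕ)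
    (W : (Fin (p + 1) → ι) → Set (Set X)) (hWo : ∀ t, ∀ w ∈ W t, IsOpen w)
    (hWc : ∀ t, ⋃₀ W t = ⋂ l, U (t l)) (hWne : ∀ t, (W t).Nonempty) :
    ∃ (J : Type u) (V : J → Set X) (α : J → ι), (∀ j, IsOpen (V j)) ∧ (⋃ j, V j = Set.univ) ∧
      (∀ j, closure (V j) ⊆ U (α j)) ∧
      (∀ t : Fin (p + 1) → J, ∃ w ∈ W (α ∘ t), (⋂ l, V (t l)) ⊆ w) := by
  classical
  obtain ⟨I₀, hI₀⟩ := isCompact_univ.elim_finite_subcover U hU (by rw [hcov])
  have hcov₀ : ⋃ i : ↥I₀, U i = univ := by
    rw [eq_univ_iff_forall]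
    intro x
    obtain ⟨i, hi, hx⟩ := mem_iUnion₂.mp (hI₀ (mem_univ x))
    exact mem_iUnion.mpr ⟨⟨i, hi⟩, hx⟩
  obtain ⟨U', hU'cov, hU'o, hU'cl⟩ := exists_iUnion_eq_closure_subset (u := fun i : ↥I₀ => U i)
    (fun i => hU i) (fun x => Set.toFinite _) hcov₀
  have hα : ∀ x : X, ∃ i : ↥I₀, x ∈ U' i := fun x => by
    have : x ∈ ⋃ i, U' i := hU'cov ▸ mem_univ x
    exact mem_iUnion.mp this
  choose α hαx using hα
  have hw : ∀ (x : X) (t : Fin (p + 1) → ι), ∃ w : Set X, IsOpen w ∧ x ∈ w ∧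
      (x ∈ ⋂ l, U (t l) → w ∈ W t) := by
    intro x t
    by_cases h : x ∈ ⋂ l, U (t l)
    · rw [← hWc t] at h
      obtain ⟨w, hwW, hxw⟩ := h
      exact ⟨w, hWo t w hwW, hxw, fun _ => hwW⟩
    · exact ⟨univ, isOpen_univ, mem_univ x, fun h' => absurd h' h⟩
  choose wf hwfo hxwf hwfW using hw
  let V : X → Set X := fun x => U' (α x) ∩
    (⋂ (i : ↥I₀), ⋂ (_ : x ∉ closure (U' i)), (closure (U' i))ᶜ) ∩
    ⋂ (t : Fin (p + 1) → ↥I₀), wf x (fun l => (t l : ι))
  have hxV : ∀ x, x ∈ V x := by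
    intro x
    refine ⟨⟨hαx x, ?_⟩, ?_⟩
    · simp only [mem_iInter]
      intro i hi
      exact hi
    · simp only [mem_iInter]
      intro t
      exact hxwf x _
  refine ⟨X, V, fun x => (α x : ι), ?_, ?_, ?_, ?_⟩
  · intro x
    refine ((hU'o (α x)).inter ?_).inter ?_
    · exact isOpen_iInter_of_finite fun i => isOpen_iInter_of_finite fun _ =>
        isClosed_closure.isOpen_compl
    · exact isOpen_iInter_of_finite fun t => hwfo x _
  · rw [eq_univ_iff_forall]
    intro x
    exact mem_iUnion.mpr ⟨x, hxV x⟩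
  · intro x
    refine (closure_mono ?_).trans (hU'cl (α x))
    intro y hy
    exact hy.1.1
  · intro t
    by_cases hne : (⋂ l, V (t l)).Nonempty
    · obtain ⟨y, hy⟩ := hne
      simp only [mem_iInter] at hy
      -- `t 0` lies in all the `U (α (t l))`
      have hx0 : ∀ l, t 0 ∈ closure (U' (α (t l))) := by
        intro l
        by_contra hcon
        have h1 : y ∈ (closure (U' (α (t l))))ᶜ := by
          have := (hy 0).1.2
          simp only [mem_iInter] at this
          exact this (α (t l)) hcon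
        exact h1 (subset_closure (hy l).1.1)
      have hx0U : t 0 ∈ ⋂ l, U ((fun x => (α x : ι)) (t l)) := by
        simp only [mem_iInter]
        intro l
        exact hU'cl (α (t l)) (hx0 l)
      refine ⟨wf (t 0) ((fun x => (α x : ι)) ∘ t), hwfW (t 0) _ hx0U, ?_⟩
      intro z hz
      simp only [mem_iInter] at hz
      have := (hz 0).2
      simp only [mem_iInter] at this
      exact this (fun l => α (t l))
    · obtain ⟨w, hw⟩ := hWne ((fun x => (α x : ι)) ∘ t)
      refine ⟨w, hw, ?_⟩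
      rw [not_nonempty_iff_eq_empty] at hne
      rw [hne]
      exact empty_subset _

end Groth.Agent.Helper7.Cech
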