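import Mathlib.Topology.ExtremallyDisconnected

/-! Minimal extremally disconnected covers of compact Hausdorff spaces (Gleason covers). -/

namespace Groth.Agent.Helper7

open Set Function

universe u

/-- An endomorphism of an irreducible cover compatible with the projection is the identity. -/
lemma eq_id_of_irreducible {E X : Type*} [TopologicalSpace E] [T2Space E]
    (π : E → X) (hsurj : Surjective π)
    (hirr : ∀ F : Set E, IsClosed F → F ≠ univ → π '' F ≠ univ)
    (ρ : E → E) (hρ : Continuous ρ) (h : π ∘ ρ = π) : ρ = id := by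
  funext x
  by_contra hx
  obtain ⟨U₀, V₀, hU₀, hV₀, hxU, hρV, hdisj⟩ := t2_separation (Ne.symm hx)
  set U : Set E := U₀ ∩ ρ ⁻¹' V₀ with hU
  have hUo : IsOpen U := hU₀.inter (hV₀.preimage hρ)
  have hxU' : x ∈ U := ⟨hxU, hρV⟩
  apply hirr Uᶜ hUo.isClosed_compl
  · intro hun
    have : x ∈ Uᶜ := hun ▸ mem_univ x
    exact this hxU'
  · rw [eq_univ_iff_forall]
    intro y
    obtain ⟨e, rfl⟩ := hsurj y
    by_cases he : e ∈ U
    · refine ⟨ρ e, ?_, congrFun h e⟩
      intro hρe
      exact (Set.disjoint_left.mp hdisj hρe.1) he.2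
    · exact ⟨e, he, rfl⟩

/-- A type synonym carrying the discrete topology. -/
structure Disc (X : Type u) : Type u where
  /-- the underlying point -/
  val : X

instance (X : Type u) : TopologicalSpace (Disc X) := ⊥
instance (X : Type u) : DiscreteTopology (Disc X) := ⟨rfl⟩

/-- Uniqueness of minimal extremally disconnected covers. -/
theorem gleason_unique (X : Type u) [TopologicalSpace X] [CompactSpace X] [T2Space X]
    (X' X'' : Type u) [TopologicalSpace X'] [CompactSpace X'] [T2Space X']
    [ExtremallyDisconnected X']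
    [TopologicalSpace X''] [CompactSpace X''] [T2Space X''] [ExtremallyDisconnected X'']
    (p : X' → X) (q : X'' → X)
    (hp : Continuous p) (hps : Surjective p)
    (hpi : ∀ E : Set X', IsClosed E → E ≠ univ → p '' E ≠ univ)
    (hq : Continuous q) (hqs : Surjective q)
    (hqi : ∀ E : Set X'', IsClosed E → E ≠ univ → q '' E ≠ univ) :
    ∃ h : X' ≃ₜ X'', q ∘ h = p := by
  obtain ⟨h, hh, hqh⟩ := CompactT2.ExtremallyDisconnected.projective (A := X') hp hq hqs
  obtain ⟨k, hk, hpk⟩ := CompactT2.ExtremallyDisconnected.projective (A := X'') hq hp hps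
  have h1 : k ∘ h = id := by
    apply eq_id_of_irreducible p hps hpi (k ∘ h) (hk.comp hh)
    rw [← comp_assoc, hpk, hqh]
  have h2 : h ∘ k = id := by
    apply eq_id_of_irreducible q hqs hqi (h ∘ k) (hh.comp hk)
    rw [← comp_assoc, hqh, hpk]
  refine ⟨⟨⟨h, k, congrFun h1, congrFun h2⟩, hh, hk⟩, ?_⟩
  exact hqh

/-- Existence of minimal extremally disconnected covers. -/
theorem gleason_exists (X : Type u) [TopologicalSpace X] [CompactSpace X] [T2Space X] :
    ∃ (X' : Type u) (_ : TopologicalSpace X') (_ : CompactSpace X') (_ : T2Space X')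
      (_ : ExtremallyDisconnected X') (p : X' → X), Continuous p ∧ Surjective p ∧
        ∀ E : Set X', IsClosed E → E ≠ univ → p '' E ≠ univ := by
  let D := StoneCech (Disc X)
  have hcont : Continuous (Disc.val : Disc X → X) := continuous_of_discreteTopology
  let πD : D → X := stoneCechExtend hcont
  have hπD : Continuous πD := continuous_stoneCechExtend hcont
  have hπDs : Surjective πD := by
    intro x
    refine ⟨stoneCechUnit (⟨x⟩ : Disc X), ?_⟩
    exact congrFun (stoneCechExtend_extends hcont) ⟨x⟩
  obtain ⟨E, hEc, hEonto, hEmin⟩ := exists_compact_surjective_zorn_subset hπD hπDs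
  let p : E → X := E.domRestrict πD
  have hp : Continuous p := hπD.continuousOn.domRestrict
  have hps : Surjective p := fun a => by
    rcases (hEonto ▸ mem_univ a : a ∈ πD '' E) with ⟨d, hd, rfl⟩
    exact ⟨⟨d, hd⟩, rfl⟩
  have hpi : ∀ F : Set E, IsClosed F → F ≠ univ → p '' F ≠ univ :=
    fun F hF hne => hEmin F hne hF
  -- a retraction of `D` onto `E`
  obtain ⟨r, hr, hpr⟩ := StoneCech.projective (X := Disc X) hπD hp hps
  have hrE : r ∘ (Subtype.val : E → D) = id := by
    apply eq_id_of_irreducible p hps hpi _ (hr.comp continuous_subtype_val)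
    rw [← comp_assoc, hpr]
    rfl
  have hproj : CompactT2.Projective E := by
    intro Y Z _ _ _ _ _ _ f g hf hg hgs
    obtain ⟨h', hh', hgh'⟩ := StoneCech.projective (X := Disc X) (hf.comp hr) hg hgs
    refine ⟨h' ∘ Subtype.val, hh'.comp continuous_subtype_val, ?_⟩
    rw [← comp_assoc, hgh', comp_assoc, hrE, comp_id]
  exact ⟨E, inferInstance, hEc, inferInstance, hproj.extremallyDisconnected, p, hp, hps, hpi⟩

end Groth.Agent.Helper7
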