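import Mathlib.Topology.Category.TopCommRingCat
import Mathlib.Algebra.Category.Ring.Colimits
import Mathlib.CategoryTheory.Limits.Preserves.Basic
import Mathlib.Topology.Algebra.Ring.Basic

/-! Colimits of topological commutative rings. -/

namespace Groth.Agent.Helper7.TopRing

open CategoryTheory CategoryTheory.Limits

universe u

/-- the ring topology induced by a ring homomorphism -/
def inducedRingTop {R S : Type*} [Ring R] [Ring S] [tS : TopologicalSpace S]
    [IsTopologicalRing S] (φ : R →+* S) : RingTopology R :=
  let _ : TopologicalSpace R := tS.induced φ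
  { toContinuousAdd := continuousAdd_induced φ
    toContinuousMul := continuousMul_induced φ
    toContinuousNeg := ContinuousNeg.induced φ }

lemma inducedRingTop_toTopologicalSpace {R S : Type*} [Ring R] [Ring S] [tS : TopologicalSpace S]
    [IsTopologicalRing S] (φ : R →+* S) :
    (inducedRingTop φ).toTopologicalSpace = tS.induced φ := rfl

variable {J : Type u} [SmallCategory J] (D : J ⥤ TopCommRingCat.{u})

/-- the underlying diagram of rings -/
abbrev F : J ⥤ CommRingCat.{u} := D ⋙ forget₂ TopCommRingCat CommRingCat

/-- the colimit cocone of rings -/
noncomputable abbrev c : Cocone (F D) := colimit.cocone (F D)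

/-- the set of ring topologies making the coprojections continuous -/
def goodTop : Set (RingTopology (c D).pt) :=
  {b | ∀ j, @Continuous (D.obj j) (c D).pt _ b.toTopologicalSpace ((c D).ι.app j).hom}

/-- the final ring topology -/
noncomputable def colimTop : RingTopology (c D).pt := sInf (goodTop D)

lemma colimTop_continuous (j : J) :
    @Continuous (D.obj j) (c D).pt _ (colimTop D).toTopologicalSpace ((c D).ι.app j).hom :=
  continuous_sInf_rng.2 <| Set.forall_mem_image.2 fun _ hb => hb j

lemma colimTop_continuous_desc {S : Type*} [CommRing S] [TopologicalSpace S] [IsTopologicalRing S]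
    (φ : (c D).pt →+* S)
    (h : ∀ j, @Continuous (D.obj j) S _ _ (φ.comp ((c D).ι.app j).hom)) :
    @Continuous (c D).pt S (colimTop D).toTopologicalSpace _ φ := by
  have hmem : inducedRingTop φ ∈ goodTop D := by
    intro j
    rw [inducedRingTop_toTopologicalSpace]
    exact continuous_induced_rng.mpr (h j)
  have hle : colimTop D ≤ inducedRingTop φ := sInf_le hmem
  have hle' : (colimTop D).toTopologicalSpace ≤ (inducedRingTop φ).toTopologicalSpace := hle
  rw [inducedRingTop_toTopologicalSpace] at hle'
  exact continuous_iff_le_induced.mpr hle'

/-- the colimit object -/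
noncomputable def colimObj : TopCommRingCat.{u} :=
  @TopCommRingCat.of (c D).pt _ (colimTop D).toTopologicalSpace (colimTop D).toIsTopologicalRing

/-- the colimit cocone -/
noncomputable def colimCocone : Cocone D where
  pt := colimObj D
  ι :=
    { app := fun j => ⟨((c D).ι.app j).hom, colimTop_continuous D j⟩
      naturality := by
        intro j j' f
        apply Subtype.ext
        have := (c D).ι.naturality f
        have h2 := congrArg CommRingCat.Hom.hom this
        exact h2 }

/-- the ring-level descent map -/
noncomputable def descRing (s : Cocone D) : (c D).pt ⟶ CommRingCat.of s.pt :=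
  (colimit.isColimit (F D)).desc ((forget₂ TopCommRingCat CommRingCat).mapCocone s)

lemma descRing_fac (s : Cocone D) (j : J) :
    (descRing D s).hom.comp ((c D).ι.app j).hom = (s.ι.app j).val := by
  have := (colimit.isColimit (F D)).fac ((forget₂ TopCommRingCat CommRingCat).mapCocone s) j
  have h2 := congrArg CommRingCat.Hom.hom this
  exact h2

/-- the constructed cocone is a colimit -/
noncomputable def colimIsColimit : IsColimit (colimCocone D) where
  desc s := ⟨(descRing D s).hom, colimTop_continuous_desc D (descRing D s).hom (fun j => by
    rw [descRing_fac]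
    exact (s.ι.app j).2)⟩
  fac s j := Subtype.ext (descRing_fac D s j)
  uniq s m hm := by
    apply Subtype.ext
    have h1 : CommRingCat.ofHom m.val = descRing D s := by
      apply (colimit.isColimit (F D)).uniq ((forget₂ TopCommRingCat CommRingCat).mapCocone s)
        (CommRingCat.ofHom m.val)
      intro j
      have := congrArg Subtype.val (hm j)
      ext x
      exact congrFun (congrArg DFunLike.coe this) x
    have h2 := congrArg CommRingCat.Hom.hom h1
    exact h2

lemma hasColimits : HasColimits TopCommRingCat.{u} :=
  ⟨fun _ _ => ⟨fun D => ⟨⟨⟨colimCocone D, colimIsColimit D⟩⟩⟩⟩⟩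

/-- the image cocone is the chosen colimit cocone -/
noncomputable def mapCoconeIso :
    (forget₂ TopCommRingCat CommRingCat).mapCocone (colimCocone D) ≅ c D :=
  Cocone.ext (Iso.refl _) (fun j => by
    ext x
    rfl)

lemma preservesColimits :
    PreservesColimits (forget₂ TopCommRingCat.{u} CommRingCat.{u}) :=
  ⟨fun {_} _ => ⟨fun {D} => preservesColimit_of_preserves_colimit_cocone (colimIsColimit D)
    ((colimit.isColimit (F D)).ofIsoColimit (mapCoconeIso D).symm)⟩⟩

end Groth.Agent.Helper7.TopRing
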